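import Groth.Agent.ModPairLib.Valu
import Groth.Agent.ModPairLib.Charts

/-!
Strict transforms: vanishing of sections at points, separation of closures in blowing ups.
-/

set_option autoImplicit false
universe u

open CategoryTheory Limits AlgebraicGeometry TopologicalSpace

namespace Groth.Agent.StrictTf

variable {X Y Z : Scheme.{u}}

/-- The sections over `U` vanishing at a point of `U`. -/
noncomputable def vanishAt (U : X.Opens) {x : X} (hx : x ∈ U) : Ideal Γ(X, U) :=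
  (IsLocalRing.maximalIdeal (X.presheaf.stalk x)).comap (X.presheaf.germ U x hx).hom

theorem mem_vanishAt {U : X.Opens} {x : X} (hx : x ∈ U) {h : Γ(X, U)} :
    h ∈ vanishAt U hx ↔ x ∉ X.basicOpen h := by
  rw [Scheme.mem_basicOpen _ _ _ hx]
  rfl

theorem vanishAt_isPrime (U : X.Opens) {x : X} (hx : x ∈ U) : (vanishAt U hx).IsPrime :=
  Ideal.comap_isPrime _ _

/-- Sections of an ideal sheaf vanish on its support. -/
theorem notMem_basicOpen (I : X.IdealSheafData) (V : X.affineOpens) {s : Γ(X, V.1)} (hs : s ∈ I.ideal V)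
    {x : X} (hx : x ∈ I.support) : x ∉ X.basicOpen s := fun h =>
  (Scheme.mem_zeroLocus_iff X _ _).1 ((Scheme.IdealSheafData.mem_support_iff_of_mem (X.basicOpen_le s h)).1 hx) s hs h

/-- Vanishing at points is inherited by the closure. -/
theorem notMem_basicOpen_closure {U : X.Opens} {h : Γ(X, U)} {S : Set X}
    (hS : ∀ u ∈ S, u ∈ U → u ∉ X.basicOpen h) {x : X} (hx : x ∈ closure S) : x ∉ X.basicOpen h := fun hxb => by
  obtain ⟨u, hu, huS⟩ := mem_closure_iff.1 hx _ (X.basicOpen h).isOpen hxb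
  exact hS u huS (X.basicOpen_le h hu) hu

theorem mem_basicOpen_appLE {f : Y ⟶ X} {V : X.Opens} {W : Y.Opens} (hW : W ≤ f ⁻¹ᵁ V) (s : Γ(X, V))
    {y : Y} (hy : y ∈ W) : y ∈ Y.basicOpen ((f.appLE V W hW).hom s) ↔ f y ∈ X.basicOpen s := by
  rw [Scheme.basicOpen_appLE]
  exact ⟨fun h => h.2, fun h => ⟨hy, h⟩⟩

/-- A chart: the exceptional ideal is principal upstairs. -/
theorem exists_chart {X' Z' : Scheme.{u}} (q : X' ⟶ X) (C : X.IdealSheafData)
    (hC : BlowUp.IsEffCartierIdeal (C.comap q)) (φ : Z' ⟶ X') (z : Z') :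
    ∃ (V : X.affineOpens) (V' : X'.affineOpens) (W : Z'.affineOpens) (_ : V'.1 ≤ q ⁻¹ᵁ V.1)
      (_ : W.1 ≤ φ ⁻¹ᵁ V'.1) (e : Γ(X', V'.1)), z ∈ W.1 ∧ (C.comap q).ideal V' = Ideal.span {e} := by
  obtain ⟨V, hV, hzV, -⟩ := exists_isAffineOpen_mem_and_subset (U := (⊤ : X.Opens)) (x := q (φ z)) trivial
  obtain ⟨V', hzV', hV'V, hpr⟩ := ModPairLib.exists_span hC (φ z) (q ⁻¹ᵁ V) hzV
  obtain ⟨W, hW, hzW, hWV⟩ := exists_isAffineOpen_mem_and_subset (U := φ ⁻¹ᵁ V'.1) (x := z) hzV'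
  obtain ⟨e, he⟩ := hpr V' le_rfl
  exact ⟨⟨V, hV⟩, V', ⟨W, hW⟩, hV'V, hWV, e, hzW, he⟩

/-- Over the interior of the centre the generator of the exceptional ideal is invertible. -/
theorem mem_basicOpen_of_notMem_support (E : X.IdealSheafData) (V : X.affineOpens) {e : Γ(X, V.1)}
    (he : E.ideal V = Ideal.span {e}) {x : X} (hx : x ∈ V.1) (hxE : x ∉ E.support) : x ∈ X.basicOpen e :=
  (DivPts.compl_inf_eq_basicOpen E V he).le ⟨hxE, hx⟩

/-- Near a limit of points of `V(I)` outside the centre, the ideal `I ⊆ C` is the exceptional ideal times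
sections vanishing at the point. -/
theorem exists_mul_vanish {X' : Scheme.{u}} (q : X' ⟶ X) (C I : X.IdealSheafData) (hle : I ≤ C) (S : Set X')
    (hS : ∀ u ∈ S, q u ∈ I.support ∧ q u ∉ C.support) (V' : X'.affineOpens)
    {e : Γ(X', V'.1)} (he : (C.comap q).ideal V' = Ideal.span {e}) {x' : X'} (hx' : x' ∈ closure S)
    {a : Γ(X', V'.1)} (ha : a ∈ (I.comap q).ideal V') :
    ∃ α, a = e * α ∧ x' ∉ X'.basicOpen α := by
  obtain ⟨α, hα⟩ := Ideal.mem_span_singleton.1 (he ▸ Scheme.IdealSheafData.comap_mono (f := q) hle V' ha)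
  refine ⟨α, hα, notMem_basicOpen_closure (fun u hu huV hb => ?_) hx'⟩
  refine notMem_basicOpen (I.comap q) V' ha (x := u) ?_ ?_
  · rw [Scheme.IdealSheafData.support_comap]
    exact (hS u hu).1
  · rw [hα, X'.basicOpen_mul]
    exact ⟨mem_basicOpen_of_notMem_support _ V' he huV
      (by rw [Scheme.IdealSheafData.support_comap]; exact (hS u hu).2), hb⟩

/-- The same, pulled back along `φ`. -/
theorem comap_le_span_mul {X' Z' : Scheme.{u}} (q : X' ⟶ X) (φ : Z' ⟶ X') (C I : X.IdealSheafData) (hle : I ≤ C)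
    (S : Set X') (hS : ∀ u ∈ S, q u ∈ I.support ∧ q u ∉ C.support)
    (V' : X'.affineOpens) {e : Γ(X', V'.1)} (he : (C.comap q).ideal V' = Ideal.span {e})
    (W : Z'.affineOpens) (hW : W.1 ≤ φ ⁻¹ᵁ V'.1) {z : Z'} (hz : z ∈ W.1) (hzS : φ z ∈ closure S) :
    (I.comap (φ ≫ q)).ideal W ≤ Ideal.span {(φ.appLE V'.1 W.1 hW).hom e} * vanishAt W.1 hz := by
  rw [Scheme.IdealSheafData.comap_comp, FpqcDescent.ideal_comap _ φ V' W hW, Ideal.map_le_iff_le_comap]
  intro a ha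
  obtain ⟨α, rfl, hα⟩ := exists_mul_vanish q C I hle S hS V' he hzS ha
  rw [Ideal.mem_comap, map_mul]
  exact Ideal.mul_mem_mul (Ideal.mem_span_singleton_self _)
    ((mem_vanishAt hz).2 fun h => hα ((mem_basicOpen_appLE hW α hz).1 h))

/-- The inverse image ideal is not generated, near the strict transform of `V(I)`, by a section of `I`. -/
theorem ne_span_of_meets {X' Yt : Scheme.{u}} (I C : X.IdealSheafData) (b : X' ⟶ X) (b' : Yt ⟶ I.subscheme)
    (hb' : BlowUp.IsEffCartierIdeal ((C.comap I.subschemeι).comap b')) (k : Yt ⟶ X')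
    (hk : k ≫ b = b' ≫ I.subschemeι) (V : X.affineOpens) (s : Γ(X, V.1)) (hs : s ∈ I.ideal V)
    (V' : X'.affineOpens) (hV' : V'.1 ≤ b ⁻¹ᵁ V.1) {y : Yt} (hy : k y ∈ V'.1) :
    (C.comap b).ideal V' ≠ Ideal.span {(b.appLE V.1 V'.1 hV').hom s} := by
  intro h
  obtain ⟨W, hW, hyW, hWV⟩ := exists_isAffineOpen_mem_and_subset (U := k ⁻¹ᵁ V'.1) (x := y) hy
  rw [← Scheme.IdealSheafData.comap_comp, ← hk, Scheme.IdealSheafData.comap_comp] at hb'
  have h0 : (k.appLE V'.1 W hWV).hom ((b.appLE V.1 V'.1 hV').hom s) = 0 := by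
    have h1 : (k.appLE V'.1 W hWV).hom ((b.appLE V.1 V'.1 hV').hom s) ∈ (I.comap (k ≫ b)).ideal ⟨W, hW⟩ := by
      rw [Scheme.IdealSheafData.comap_comp, FpqcDescent.ideal_comap _ k V' ⟨W, hW⟩ hWV]
      refine Ideal.mem_map_of_mem _ ?_
      rw [FpqcDescent.ideal_comap _ b V V' hV']
      exact Ideal.mem_map_of_mem _ hs
    rw [hk, Scheme.IdealSheafData.comap_comp] at h1
    have h2 : I.comap I.subschemeι = ⊥ :=
      le_bot_iff.1 (Scheme.IdealSheafData.le_map_iff_comap_le.1 (by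
        rw [Scheme.IdealSheafData.map_bot, Scheme.IdealSheafData.ker_subschemeι]))
    rw [h2, (Scheme.IdealSheafData.map_gc b').l_bot] at h1
    simpa using h1
  have h3 : ((C.comap b).comap k).ideal ⟨W, hW⟩ = Ideal.span {0} := by
    rw [FpqcDescent.ideal_comap _ k V' ⟨W, hW⟩ hWV, h, Ideal.map_span, Set.image_singleton, h0]
  have h4 := ModPairLib.nzd_of_span hb' ⟨W, hW⟩ h3
  haveI : Nonempty W := ⟨⟨y, hyW⟩⟩
  exact zero_ne_one ((h4.1 1 (zero_mul 1)).symm)

end Groth.Agent.StrictTf
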